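import Cfsg.Agent.H823.SK.Abs
import Cfsg.Agent.H828.KillHe
import Cfsg.Agent.H997.OutHe2
import Cfsg.Agent.CpAut.SmallP.TwoPart
import Cfsg.Agent.KFacts.He.Outer
import Cfsg.Agent.KFacts.He.Classes

/-!
# S3010 (Sidki pairs): the row `He` (helper823, task 3728)

`G = K V ≤ Aut(He)`. The inner classes of involutions are dead: `2A` (the class of `c`) by `x = (cd)²` of order 5,
`C(c, x) = A5`; `2B` (the class of `d`) by `X = cgdb` of order 17: no involution of `Aut(He)` commutes with `X`, as the outer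
automorphism `y ↦ k ρ(y) k⁻¹` maps `X` to `X¹⁴`.
-/

set_option autoImplicit false
set_option maxRecDepth 100000

universe u

open Subgroup Cfsg Cfsg.Agent.H282.SK Cfsg.Agent.H823.SK
open Cfsg.Spor.He (Gen)
open Cfsg.Agent.SporadicB.HePerm Cfsg.Agent.FixBN.HeStab Cfsg.Agent.KFacts.He.Lv
open Cfsg.Agent.CpAutHe.Cnt (pw wd_pw)
open Cfsg.Agent.H997.OutHe (rho rho_gn rho_sq rho_outer)

namespace Cfsg.Agent.H823.SK.He

/-! ### Words -/

theorem ne_of {v w : List Gen} {i : Fin 2058} (h : Nat.beq (act v i) (act w i) = false) : wd v ≠ wd w := by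
  intro he
  have h1 := act_eq v i
  rw [he, ← act_eq w i] at h1
  rw [h1, Nat.beq_refl] at h
  exact absurd h (by decide)

/-- the swap of the letters `f`, `g` -/
def swl (w : List Gen) : List Gen := w.map Cfsg.Agent.H997.OutHe.sw

theorem rho_wd (w : List Gen) : rho (wd w) = wd (swl w) := by
  induction w with
  | nil => exact map_one _
  | cons x w ih =>
    rw [wd_cons, map_mul, rho_gn, ih]
    rfl

def wx : List Gen := [.c, .d, .c, .d]
def wm : List Gen := [.c, .d, .c, .d, .f, .d, .c, .d, .c, .f, .d, .c, .d, .f, .d]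
def wn : List Gen := [.c, .d, .c, .d, .g, .d, .c, .d, .c, .g, .d, .c, .d, .g, .d]
def wk : List Gen := [.b, .c, .g, .d, .f, .d, .e, .g, .c, .b]

/-- order 5 -/
noncomputable def x : Spor.He := wd wx
noncomputable def c : Spor.He := wd [.c]
noncomputable def a : Spor.He := wd [.a]
noncomputable def m : Spor.He := wd wm
noncomputable def n : Spor.He := wd wn
noncomputable def k : Spor.He := wd wk

theorem x_pow : x ^ 5 = 1 := by
  have h := eq_of_chkB (v := pw wx 5) (w := []) (by decide +kernel)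
  rwa [wd_pw, wd_nil] at h

theorem x_ne : x ≠ 1 := by
  rw [x, ← wd_nil]
  exact ne_of (i := 1) (by decide +kernel)

theorem c_sq : c * c = 1 := by
  rw [c, ← wd_append, ← wd_nil]
  exact eq_of_chkB (by decide +kernel)

theorem cx : c * x * c * x = 1 := by
  rw [c, x, ← wd_append, ← wd_append, ← wd_append, ← wd_nil]
  exact eq_of_chkB (by decide +kernel)

theorem a_sq : a * a = 1 := by
  rw [a, ← wd_append, ← wd_nil]
  exact eq_of_chkB (by decide +kernel)

theorem m_sq : m * m = 1 := by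
  rw [m, ← wd_append, ← wd_nil]
  exact eq_of_chkB (by decide +kernel)

theorem am : a * m = n := by
  rw [a, m, n, ← wd_append]
  exact eq_of_chkB (by decide +kernel)

theorem ma : m * a = n := by
  rw [a, m, n, ← wd_append]
  exact eq_of_chkB (by decide +kernel)

theorem a_ne : a ≠ 1 := by
  rw [a, ← wd_nil]
  exact ne_of (i := 8) (by decide +kernel)

theorem m_ne : m ≠ 1 := by
  rw [m, ← wd_nil]
  exact ne_of (i := 1) (by decide +kernel)

theorem a_ne_m : a ≠ m := by
  rw [a, m]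
  exact ne_of (i := 1) (by decide +kernel)

theorem ax : a * x = x * a := by
  rw [a, x, ← wd_append, ← wd_append]
  exact eq_of_chkB (by decide +kernel)

theorem mx : m * x = x * m := by
  rw [m, x, ← wd_append, ← wd_append]
  exact eq_of_chkB (by decide +kernel)

theorem kx : k * x = x * k := by
  rw [k, x, ← wd_append, ← wd_append]
  exact eq_of_chkB (by decide +kernel)

theorem ac : a * c = c * a := by
  rw [a, c, ← wd_append, ← wd_append]
  exact eq_of_chkB (by decide +kernel)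

theorem mc : m * c = c * m := by
  rw [m, c, ← wd_append, ← wd_append]
  exact eq_of_chkB (by decide +kernel)

theorem kc : k * c = c * k := by
  rw [k, c, ← wd_append, ← wd_append]
  exact eq_of_chkB (by decide +kernel)

theorem rho_x : rho x = x := by
  rw [x, rho_wd]
  exact eq_of_chkB (by decide +kernel)

theorem rho_a : rho a = a := by
  rw [a, rho_wd]
  exact eq_of_chkB (by decide +kernel)

theorem rho_m : rho m = n := by
  rw [m, rho_wd, n]
  exact eq_of_chkB (by decide +kernel)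

/-- `k` moves the involutions of the four-group outside the four-group -/
theorem k_move {r s : Spor.He} (hr : r = a ∨ r = m ∨ r = n) (hs : s = a ∨ s = m ∨ s = n) : k * r ≠ s * k := by
  rcases hr with rfl | rfl | rfl <;> rcases hs with rfl | rfl | rfl <;>
    simp only [a, m, n, k, ← wd_append] <;> exact ne_of (i := 1) (by decide +kernel)

/-! ### The four-group -/

theorem n_sq : n * n = 1 := by
  calc n * n = (a * m) * (m * a) := by rw [am, ma]
    _ = a * (m * m) * a := by group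
    _ = 1 := by rw [m_sq, mul_one, a_sq]

theorem an : a * n = m := by
  rw [← am, ← mul_assoc, a_sq, one_mul]

theorem na : n * a = m := by
  rw [← ma, mul_assoc, a_sq, mul_one]

theorem mn : m * n = a := by
  rw [← ma, ← mul_assoc, m_sq, one_mul]

theorem nm : n * m = a := by
  rw [← am, mul_assoc, m_sq, mul_one]

theorem n_ne : n ≠ 1 := by
  intro h
  apply a_ne_m
  rw [← mn, h, mul_one]

/-- the four-group -/
def F : Subgroup Spor.He where
  carrier := {v | v = 1 ∨ v = a ∨ v = m ∨ v = n}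
  one_mem' := Or.inl rfl
  mul_mem' := by
    rintro v w (rfl | rfl | rfl | rfl) (rfl | rfl | rfl | rfl)
    · exact Or.inl (one_mul _)
    · exact Or.inr (Or.inl (one_mul _))
    · exact Or.inr (Or.inr (Or.inl (one_mul _)))
    · exact Or.inr (Or.inr (Or.inr (one_mul _)))
    · exact Or.inr (Or.inl (mul_one _))
    · exact Or.inl a_sq
    · exact Or.inr (Or.inr (Or.inr am))
    · exact Or.inr (Or.inr (Or.inl an))
    · exact Or.inr (Or.inr (Or.inl (mul_one _)))
    · exact Or.inr (Or.inr (Or.inr ma))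
    · exact Or.inl m_sq
    · exact Or.inr (Or.inl mn)
    · exact Or.inr (Or.inr (Or.inr (mul_one _)))
    · exact Or.inr (Or.inr (Or.inl na))
    · exact Or.inr (Or.inl nm)
    · exact Or.inl n_sq
  inv_mem' := by
    rintro v (rfl | rfl | rfl | rfl)
    · exact Or.inl inv_one
    · exact Or.inr (Or.inl (inv_eq_of_mul_eq_one_right a_sq))
    · exact Or.inr (Or.inr (Or.inl (inv_eq_of_mul_eq_one_right m_sq)))
    · exact Or.inr (Or.inr (Or.inr (inv_eq_of_mul_eq_one_right n_sq)))

theorem mem_F {v : Spor.He} : v ∈ F ↔ v = 1 ∨ v = a ∨ v = m ∨ v = n := Iff.rfl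

theorem card_F : Nat.card F = 4 := by
  classical
  have h1 : (F : Set Spor.He) = (({1, a, m, n} : Finset Spor.He) : Set Spor.He) := by
    ext v
    simp [mem_F]
  have h2 : a ≠ n := fun h => m_ne (by rw [← an, ← h, a_sq])
  have h3 : m ≠ n := fun h => a_ne (by rw [← mn, ← h, m_sq])
  have h4 : Nat.card F = (F : Set Spor.He).ncard := rfl
  rw [h4, h1, Set.ncard_coe_finset]
  rw [Finset.card_insert_of_notMem, Finset.card_insert_of_notMem, Finset.card_insert_of_notMem, Finset.card_singleton]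
  · rw [Finset.mem_singleton]; exact h3
  · rw [Finset.mem_insert, Finset.mem_singleton]; rintro (h | h)
    · exact a_ne_m h
    · exact h2 h
  · rw [Finset.mem_insert, Finset.mem_insert, Finset.mem_singleton]; rintro (h | h | h)
    · exact a_ne h.symm
    · exact m_ne h.symm
    · exact n_ne h.symm

theorem finHe : Finite Spor.He := Nat.finite_of_card_ne_zero (by rw [KFacts.He.Classes.card_he]; norm_num)

theorem order_x : orderOf x = 5 := by
  have : Fact (Nat.Prime 5) := ⟨by norm_num⟩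
  exact orderOf_eq_prime x_pow x_ne

theorem comm_x {v : Spor.He} (hv : v ∈ F) : v * x = x * v := by
  rcases mem_F.1 hv with rfl | rfl | rfl | rfl
  · rw [one_mul, mul_one]
  · exact ax
  · exact mx
  · rw [← am, mul_assoc, mx, ← mul_assoc, ax, mul_assoc]

theorem comm_c {v : Spor.He} (hv : v ∈ F) : v * c = c * v := by
  rcases mem_F.1 hv with rfl | rfl | rfl | rfl
  · rw [one_mul, mul_one]
  · exact ac
  · exact mc
  · rw [← am, mul_assoc, mc, ← mul_assoc, ac, mul_assoc]

/-- a 2-subgroup of `C(x)` which normalises `F`, or is normalised by `F`, is contained in `F` -/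
theorem le_F {S : Subgroup Spor.He} (hS : IsPGroup 2 S) (hx : ∀ s ∈ S, s * x = x * s)
    (h : F ≤ normalizer (S : Set Spor.He) ∨ S ≤ normalizer (F : Set Spor.He)) : S ≤ F := by
  have := finHe
  have hF : IsPGroup 2 F := IsPGroup.of_card (n := 2) (by rw [card_F]; norm_num)
  have hp : IsPGroup 2 (F ⊔ S : Subgroup Spor.He) := by
    rcases h with h | h
    · exact hF.to_sup_of_normal_right' hS h
    · exact hF.to_sup_of_normal_left' hS h
  obtain ⟨r, hr⟩ := IsPGroup.iff_card.1 hp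
  have hle : F ⊔ S ≤ centralizer ({x} : Set Spor.He) :=
    sup_le (fun v hv => mem_centralizer_singleton_iff.2 (comm_x hv))
      (fun v hv => mem_centralizer_singleton_iff.2 (hx v hv))
  have hd := Subgroup.card_dvd_of_le hle
  have hr2 : r ≤ 2 := by
    by_contra hcon
    push Not at hcon
    apply CpAut.SmallP.He.not_eight_five ⟨MulEquiv.refl Spor.He⟩ order_x
    rw [hr] at hd
    exact (pow_dvd_pow 2 hcon).trans hd
  have hc : Nat.card (F ⊔ S : Subgroup Spor.He) ≤ Nat.card F := by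
    rw [hr, card_F]
    exact Nat.pow_le_pow_right (by norm_num) hr2
  have he : F = F ⊔ S := Subgroup.eq_of_le_of_card_ge le_sup_left hc
  rw [he]
  exact le_sup_right

/-- a 2-subgroup of `C(x)` normalised by `F` and `k` is trivial -/
theorem eq_one_of_norm {S : Subgroup Spor.He} (hS : IsPGroup 2 S) (hx : ∀ s ∈ S, s * x = x * s)
    (hF : ∀ v ∈ F, ∀ s ∈ S, v * s * v⁻¹ ∈ S) (hk : ∀ s ∈ S, k * s * k⁻¹ ∈ S) {s : Spor.He} (hs : s ∈ S) : s = 1 := by
  have hle : S ≤ F := by
    refine le_F hS hx (Or.inl fun v hv => ?_)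
    rw [mem_normalizer_iff]
    intro w
    refine ⟨fun hw => hF v hv w hw, fun hw => ?_⟩
    have h1 := hF v⁻¹ (F.inv_mem hv) _ hw
    have h2 : v⁻¹ * (v * w * v⁻¹) * v⁻¹⁻¹ = w := by group
    rwa [h2] at h1
  rcases mem_F.1 (hle hs) with h | h
  · exact h
  · exfalso
    rcases mem_F.1 (hle (hk s hs)) with h1 | h1
    · have h2 : s = 1 := by
        have h3 : s = k⁻¹ * (k * s * k⁻¹) * k := by group
        rw [h3, h1]
        group
      rcases h with h | h | h
      · exact a_ne (h.symm.trans h2)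
      · exact m_ne (h.symm.trans h2)
      · exact n_ne (h.symm.trans h2)
    · exact k_move h h1 (by group)

/-! ### `O_2(C(⟨t, x⟩))` in the automorphism group -/

/-- **(T2)** with the subgroup -/
theorem t2' {G : Type u} [Group G] [Finite G] {V K : Subgroup G} {P : Type} [Group P] {A N : Subgroup P} {θ : G →* P}
    (h : Cx V K) (hθ : Emb K A N θ) {t x : P} (ht : t ∈ T V A θ) (hxN : x ∈ N) (hx : Odd (orderOf x))
    (hi : t * x * t⁻¹ = x⁻¹) : ∃ u ∈ T V A θ, ∃ R : Subgroup P, IsPGroup 2 R ∧ u ∈ R ∧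
      (∀ r ∈ R, r * x = x * r ∧ r * t = t * r) ∧
      ∀ y ∈ N, y * t = t * y → y * x = x * y → ∀ r ∈ R, y * r * y⁻¹ ∈ R := by
  obtain ⟨v, hv, hv1, c, hc, rfl⟩ := ht
  have hpre : ∀ n ∈ N, ∃ k : G, k ∈ K ∧ θ k = c⁻¹ * n * c := by
    intro n hn
    have h1 : c⁻¹ * n * c ∈ N := by
      have := hθ.nrm c⁻¹ (A.inv_mem hc) n hn
      rwa [inv_inv] at this
    rw [← hθ.img] at h1
    obtain ⟨k, hk, e⟩ := h1
    exact ⟨k, hk, e⟩
  obtain ⟨k, -, hk⟩ := hpre x hxN
  have hko : orderOf k = orderOf x := by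
    rw [← orderOf_injective θ hθ.inj, hk]
    have := (MulAut.conj c⁻¹).orderOf_eq x
    simpa using this
  have hkx : Odd (orderOf k) := by rwa [hko]
  have hki : v * k * v⁻¹ = k⁻¹ := by
    apply hθ.inj
    rw [map_mul, map_mul, map_inv, map_inv, hk]
    calc θ v * (c⁻¹ * x * c) * (θ v)⁻¹ = c⁻¹ * ((c * θ v * c⁻¹) * x * (c * θ v * c⁻¹)⁻¹) * c := by group
      _ = c⁻¹ * x⁻¹ * c := by rw [hi]
      _ = (c⁻¹ * x * c)⁻¹ := by group
  obtain ⟨w, hw, hw1, hwk, hwO⟩ := h.t1 hv hv1 hkx hki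
  let R0 : Subgroup G := O2 (centralizer ({v} : Set G) ⊓ centralizer ({k} : Set G))
  refine ⟨c * θ w * c⁻¹, ⟨w, hw, hw1, c, hc, rfl⟩, (R0.map θ).map (MulAut.conj c).toMonoidHom,
    ((isPGroup_O2 _).map _).map _, ⟨θ w, ⟨w, hwO, rfl⟩, rfl⟩, ?_, ?_⟩
  · rintro _ ⟨_, ⟨r, hr, rfl⟩, rfl⟩
    have h1 := O2_le _ hr
    have h2 : r * v = v * r := mem_centralizer_singleton_iff.1 (mem_inf.1 h1).1
    have h3 : r * k = k * r := mem_centralizer_singleton_iff.1 (mem_inf.1 h1).2
    refine ⟨?_, ?_⟩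
    · show c * θ r * c⁻¹ * x = x * (c * θ r * c⁻¹)
      have h4 : θ r * (c⁻¹ * x * c) = (c⁻¹ * x * c) * θ r := by rw [← hk, ← map_mul, ← map_mul, h3]
      calc c * θ r * c⁻¹ * x = c * (θ r * (c⁻¹ * x * c)) * c⁻¹ := by group
        _ = c * ((c⁻¹ * x * c) * θ r) * c⁻¹ := by rw [h4]
        _ = _ := by group
    · show c * θ r * c⁻¹ * (c * θ v * c⁻¹) = c * θ v * c⁻¹ * (c * θ r * c⁻¹)
      have h4 : θ r * θ v = θ v * θ r := by rw [← map_mul, ← map_mul, h2]
      calc c * θ r * c⁻¹ * (c * θ v * c⁻¹) = c * (θ r * θ v) * c⁻¹ := by group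
        _ = c * (θ v * θ r) * c⁻¹ := by rw [h4]
        _ = _ := by group
  · intro y hyN hyt hyx
    obtain ⟨l, -, hl⟩ := hpre y hyN
    have hlv : l * v = v * l := by
      apply hθ.inj
      rw [map_mul, map_mul, hl]
      calc c⁻¹ * y * c * θ v = c⁻¹ * (y * (c * θ v * c⁻¹)) * c := by group
        _ = c⁻¹ * ((c * θ v * c⁻¹) * y) * c := by rw [hyt]
        _ = _ := by group
    have hlk : l * k = k * l := by
      apply hθ.inj
      rw [map_mul, map_mul, hl, hk]
      calc c⁻¹ * y * c * (c⁻¹ * x * c) = c⁻¹ * (y * x) * c := by group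
        _ = c⁻¹ * (x * y) * c := by rw [hyx]
        _ = _ := by group
    rintro _ ⟨_, ⟨r, hr, rfl⟩, rfl⟩
    have h5 : l * r * l⁻¹ ∈ R0 := conj_mem_O2 (mem_inf.2 ⟨mem_centralizer_singleton_iff.2 hlv,
      mem_centralizer_singleton_iff.2 hlk⟩) hr
    refine ⟨_, ⟨_, h5, rfl⟩, ?_⟩
    show c * θ (l * r * l⁻¹) * c⁻¹ = y * (c * θ r * c⁻¹) * y⁻¹
    rw [map_mul, map_mul, map_inv, hl]
    group

/-! ### The automorphism group -/

/-- the inner automorphisms -/
noncomputable def io : Spor.He →* MulAut Spor.He := MulAut.conj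

theorem io_apply (g y : Spor.He) : io g y = g * y * g⁻¹ := rfl

theorem center_bot {g : Spor.He} (h : ∀ y, g * y = y * g) : g = 1 := by
  have hs := Cfsg.Agent.S1695.result.1
  have hg : g ∈ Subgroup.center Spor.He := Subgroup.mem_center_iff.2 fun y => (h y).symm
  rcases hs.eq_bot_or_eq_top_of_normal (Subgroup.center Spor.He) inferInstance with h1 | h1
  · rw [h1, mem_bot] at hg
    exact hg
  · exfalso
    apply rho_outer 1
    rw [map_one]
    ext y
    have hk : k ∈ Subgroup.center Spor.He := by rw [h1]; exact mem_top _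
    exact absurd (Subgroup.mem_center_iff.1 hk a) (fun h2 => k_move (Or.inl rfl) (Or.inl rfl) h2.symm)

theorem io_inj : Function.Injective io := by
  rw [injective_iff_map_eq_one]
  intro g hg
  apply center_bot
  intro y
  have h1 : io g y = y := by rw [hg]; rfl
  rw [io_apply, mul_inv_eq_iff_eq_mul] at h1
  exact h1

theorem aut_io (α : MulAut Spor.He) (g : Spor.He) : α * io g * α⁻¹ = io (α g) := by
  apply MulEquiv.ext
  intro y
  show α (g * (α⁻¹ y) * g⁻¹) = α g * y * (α g)⁻¹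
  rw [map_mul, map_mul, map_inv]
  congr 2
  exact α.apply_symm_apply y

/-- the group of inner automorphisms -/
noncomputable def Nn : Subgroup (MulAut Spor.He) := io.range

theorem rho_not : rho ∉ Nn := by
  rintro ⟨g, hg⟩
  exact rho_outer g hg.symm

theorem mul_mem_of {u v : MulAut Spor.He} (hu : u ∉ Nn) (hv : v ∉ Nn) : u * v ∈ Nn := by
  have h2 : Nn.index = 2 := by
    rcases KFacts.He.Outer.index_le_two (K := Spor.He) KFacts.He.Outer.isoHe_refl with h | h
    · exfalso
      have h3 : Nn.index = 1 := h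
      exact hu ((Subgroup.index_eq_one.1 h3) ▸ mem_top _)
    · exact h
  exact (Subgroup.mul_mem_iff_of_index_two h2).2 (iff_of_false hu hv)

theorem cxc : c * x * c⁻¹ = x⁻¹ := by
  have h1 : c⁻¹ = c := inv_eq_of_mul_eq_one_right c_sq
  rw [h1, eq_inv_iff_mul_eq_one]
  exact cx

theorem odd_x : Odd (orderOf x) := by
  rw [order_x]
  decide

theorem m_ne_n : m ≠ n := fun h => a_ne (by rw [← mn, ← h, m_sq])

/-- no element of `C(x)` commutes with `a` and interchanges `m` and `n` -/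
theorem no_swap {g : Spor.He} (hx : g * x * g⁻¹ = x) (ha : g * a * g⁻¹ = a) (hm : g * m * g⁻¹ = n) : False := by
  have := finHe
  have hn : g * n * g⁻¹ = m := by
    calc g * n * g⁻¹ = (g * a * g⁻¹) * (g * m * g⁻¹) := by rw [← am]; group
      _ = m := by rw [ha, hm, an]
  obtain ⟨r, s, hs, hrs⟩ := Nat.exists_eq_two_pow_mul_odd (orderOf_pos g).ne'
  have hgm : g * m = n * g := by rw [← hm]; group
  have hgn : g * n = m * g := by rw [← hn]; group
  have hga : Commute g a := by
    calc g * a = (g * a * g⁻¹) * g := by group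
      _ = a * g := by rw [ha]
  have hgx : Commute g x := by
    calc g * x = (g * x * g⁻¹) * g := by group
      _ = x * g := by rw [hx]
  have h2m : Commute (g * g) m := by
    show g * g * m = m * (g * g)
    rw [mul_assoc, hgm, ← mul_assoc, hgn, mul_assoc]
  have h2n : Commute (g * g) n := by
    show g * g * n = n * (g * g)
    rw [mul_assoc, hgn, ← mul_assoc, hgm, mul_assoc]
  obtain ⟨j, rfl⟩ := hs
  have hpow : g ^ (2 * j + 1) = (g * g) ^ j * g := by rw [pow_succ, pow_mul, pow_two]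
  have hswap : g ^ (2 * j + 1) * m = n * g ^ (2 * j + 1) := by
    rw [hpow, mul_assoc, hgm, ← mul_assoc, (h2n.pow_left j).eq, mul_assoc]
  have hFn : g ∈ normalizer (F : Set Spor.He) := by
    have ha' : g⁻¹ * a * g = a := by rw [mul_assoc, ← hga.eq, ← mul_assoc, inv_mul_cancel, one_mul]
    have hm' : g⁻¹ * n * g = m := by rw [mul_assoc, ← hgm, ← mul_assoc, inv_mul_cancel, one_mul]
    have hn' : g⁻¹ * m * g = n := by rw [mul_assoc, ← hgn, ← mul_assoc, inv_mul_cancel, one_mul]
    rw [mem_normalizer_iff]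
    intro v
    constructor
    · intro hv
      rcases mem_F.1 hv with rfl | rfl | rfl | rfl
      · rw [mul_one, mul_inv_cancel]; exact F.one_mem
      · rw [ha]; exact hv
      · rw [hm]; exact Or.inr (Or.inr (Or.inr rfl))
      · rw [hn]; exact Or.inr (Or.inr (Or.inl rfl))
    · intro hv
      have hv' : v = g⁻¹ * (g * v * g⁻¹) * g := by group
      rw [hv']
      rcases mem_F.1 hv with h | h | h | h <;> rw [h]
      · rw [mul_one, inv_mul_cancel]; exact F.one_mem
      · rw [ha']; exact Or.inr (Or.inl rfl)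
      · rw [hn']; exact Or.inr (Or.inr (Or.inr rfl))
      · rw [hm']; exact Or.inr (Or.inr (Or.inl rfl))
  have h1 : (g ^ (2 * j + 1)) ^ 2 ^ r = 1 := by
    rw [← pow_mul, mul_comm, ← hrs, pow_orderOf_eq_one]
  have hle : zpowers (g ^ (2 * j + 1)) ≤ F := by
    refine le_F ?_ ?_ (Or.inr ?_)
    · rintro ⟨y, hy⟩
      obtain ⟨i, rfl⟩ := mem_zpowers_iff.1 hy
      refine ⟨r, Subtype.ext ?_⟩
      show ((g ^ (2 * j + 1)) ^ i) ^ 2 ^ r = 1
      rw [← zpow_natCast, ← zpow_mul, mul_comm i, zpow_mul, zpow_natCast, h1, one_zpow]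
    · intro y hy
      obtain ⟨i, rfl⟩ := mem_zpowers_iff.1 hy
      exact ((hgx.pow_left (2 * j + 1)).zpow_left i).eq
    · rw [zpowers_le]
      exact (normalizer (F : Set Spor.He)).pow_mem hFn _
  have h2 := hle (mem_zpowers _)
  have h3 : g ^ (2 * j + 1) * m = m * g ^ (2 * j + 1) := by
    rcases mem_F.1 h2 with h | h | h | h <;> rw [h]
    · rw [one_mul, mul_one]
    · rw [am, ma]
    · rw [nm, mn]
  exact m_ne_n (mul_right_cancel (h3.symm.trans hswap))

section dead
variable {G : Type u} [Group G] [Finite G] {V K : Subgroup G} {θ : G →* MulAut Spor.He}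

/-- `2A` is dead -/
theorem dead_c (h : Cx V K) (hθ : Emb K (⊤ : Subgroup (MulAut Spor.He)) Nn θ) : io c ∉ T V ⊤ θ := by
  intro hc
  obtain ⟨u, hu, R, hR, huR, hRc, hRn⟩ := t2' h hθ hc (x := io x) ⟨x, rfl⟩
    (by rw [orderOf_injective io io_inj]; exact odd_x) (by rw [← map_mul, ← map_inv, ← map_mul, cxc, map_inv])
  have hR0 : ∀ g, io g ∈ R → g = 1 := by
    intro g hg
    refine eq_one_of_norm (S := R.comap io) (hR.comap_of_injective io io_inj) ?_ ?_ ?_ hg
    · intro s hs
      exact io_inj (by rw [map_mul, map_mul]; exact (hRc _ hs).1)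
    · intro v hv s hs
      show io (v * s * v⁻¹) ∈ R
      rw [map_mul, map_mul, map_inv]
      exact hRn _ ⟨v, rfl⟩ (by rw [← map_mul, ← map_mul, comm_c hv]) (by rw [← map_mul, ← map_mul, comm_x hv]) _ hs
    · intro s hs
      show io (k * s * k⁻¹) ∈ R
      rw [map_mul, map_mul, map_inv]
      exact hRn _ ⟨k, rfl⟩ (by rw [← map_mul, ← map_mul, kc]) (by rw [← map_mul, ← map_mul, kx]) _ hs
  by_cases huN : u ∈ Nn
  · obtain ⟨g, rfl⟩ := huN
    exact hθ.ne_one hu (by rw [hR0 g huR, map_one])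
  have huF : ∀ v ∈ F, u v = v := by
    intro v hv
    have h1 : u * (io v * u⁻¹ * (io v)⁻¹) ∈ R := R.mul_mem huR
      (hRn _ ⟨v, rfl⟩ (by rw [← map_mul, ← map_mul, comm_c hv]) (by rw [← map_mul, ← map_mul, comm_x hv]) _
        (R.inv_mem huR))
    have h2 : u * (io v * u⁻¹ * (io v)⁻¹) = io (u v * v⁻¹) := by
      rw [map_mul, map_inv, ← aut_io]; group
    rw [h2] at h1
    exact mul_inv_eq_one.1 (hR0 _ h1)
  have hux : u x = x := by
    apply io_inj
    rw [← aut_io, (hRc u huR).1, mul_inv_cancel_right]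
  obtain ⟨g, hg⟩ := mul_mem_of huN rho_not
  have hconj : ∀ y, g * y * g⁻¹ = u (rho y) := fun y => DFunLike.congr_fun hg y
  refine no_swap (g := g) ?_ ?_ ?_
  · rw [hconj, rho_x, hux]
  · rw [hconj, rho_a]
    exact huF a (Or.inr (Or.inl rfl))
  · rw [hconj, rho_m]
    exact huF n (Or.inr (Or.inr (Or.inr rfl)))

/-! ### `2B` is dead -/

/-- the word of order 17 -/
def wX : List Gen := [.c, .g, .d, .b]
def wv : List Gen := [.c, .d, .c, .d, .b, .c, .d, .e, .a]
def wv' : List Gen := [.a, .e, .d, .c, .b, .d, .c, .d, .c]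
def wl : List Gen := [.f, .g, .d, .c, .d, .c, .b, .g, .d, .e, .c, .d, .g, .f, .d, .c, .d, .e, .b, .c, .d, .c, .b, .a]

/-- order 17 -/
noncomputable def X : Spor.He := wd wX
noncomputable def vv : Spor.He := wd wv
noncomputable def ll : Spor.He := wd wl

theorem vv_inv : vv⁻¹ = wd wv' := by
  rw [inv_eq_iff_mul_eq_one, vv, ← wd_append, ← wd_nil]
  exact eq_of_chkB (by decide +kernel)

theorem d_inv : (vv⁻¹ * gn .d * vv) * X * (vv⁻¹ * gn .d * vv) * X = 1 := by
  rw [vv_inv, vv, X, ← wd_one, ← wd_append, ← wd_append, ← wd_append, ← wd_append, ← wd_append, ← wd_nil]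
  exact eq_of_chkB (by decide +kernel)

theorem d_sq : gn .d * gn .d = 1 := by
  rw [← wd_one, ← wd_append, ← wd_nil]
  exact eq_of_chkB (by decide +kernel)

theorem order_X : orderOf X = 17 := Cfsg.Agent.H828.KillHe.order17

theorem rho_X : ll * rho X = X ^ 14 * ll := by
  rw [ll, X, rho_wd, ← wd_pw, ← wd_append, ← wd_append]
  exact eq_of_chkB (by decide +kernel)

/-- no element of `He` maps `X` to `X¹⁴` -/
theorem no_14 {y : Spor.He} (hy : y * X * y⁻¹ = X ^ 14) : False := by
  have := finHe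
  have key : ∀ i : ℕ, y ^ i * X * (y ^ i)⁻¹ = X ^ (14 ^ i) := by
    intro i
    induction i with
    | zero => simp
    | succ i ih =>
      calc y ^ (i + 1) * X * (y ^ (i + 1))⁻¹ = y * (y ^ i * X * (y ^ i)⁻¹) * y⁻¹ := by rw [pow_succ']; group
        _ = y * X ^ (14 ^ i) * y⁻¹ := by rw [ih]
        _ = (y * X * y⁻¹) ^ (14 ^ i) := (conj_pow ..).symm
        _ = X ^ (14 ^ (i + 1)) := by rw [hy, ← pow_mul, pow_succ']
  have hn : y ∈ normalizer (zpowers X : Set Spor.He) := by
    have h1 : ∀ z ∈ zpowers X, y * z * y⁻¹ ∈ zpowers X := by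
      intro z hz
      obtain ⟨i, rfl⟩ := mem_zpowers_iff.1 hz
      rw [← conj_zpow, hy]
      exact (zpowers X).zpow_mem ((zpowers X).pow_mem (mem_zpowers X) _) _
    have h2 : (zpowers X).map (MulAut.conj y).toMonoidHom = zpowers X := by
      apply Subgroup.eq_of_le_of_card_ge
      · rintro _ ⟨z, hz, rfl⟩
        exact h1 z hz
      · rw [Subgroup.card_map_of_injective (MulAut.conj y).injective]
    rw [mem_normalizer_iff]
    intro z
    refine ⟨h1 z, fun hz => ?_⟩
    rw [← h2] at hz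
    obtain ⟨w, hw, hwz⟩ := hz
    have h3 : y * w * y⁻¹ = y * z * y⁻¹ := hwz
    have h4 : w = z := mul_left_cancel (mul_right_cancel h3)
    rwa [← h4]
  have hc : Nat.card ↥(normalizer (zpowers X : Set Spor.He)) = 136 := by
    rw [← Cfsg.Agent.H828.Tools.card_mul_ne, X]
    rw [show wX = Cfsg.Agent.H828.KillHe.X from rfl, Cfsg.Agent.H828.KillHe.cent17, Cfsg.Agent.H828.KillHe.ne8]
  have h136 : y ^ 136 = 1 := by
    have h0 := pow_card_eq_one' (x := (⟨y, hn⟩ : ↥(normalizer (zpowers X : Set Spor.He))))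
    rw [hc] at h0
    exact congrArg Subtype.val h0
  have h1 := key 136
  rw [h136, one_mul, inv_one, mul_one, ← pow_mod_orderOf, order_X] at h1
  have h2 : 14 ^ 136 % 17 = 16 := by norm_num
  rw [h2] at h1
  have h3 : X ^ 15 = 1 := by
    have h4 : X ^ 16 = X ^ 15 * X := pow_succ X 15
    rw [h4] at h1
    exact mul_eq_right.1 h1.symm
  have h5 := orderOf_dvd_of_pow_eq_one h3
  rw [order_X] at h5
  norm_num at h5

theorem dead_d (h : Cx V K) (hθ : Emb K (⊤ : Subgroup (MulAut Spor.He)) Nn θ) : io (gn .d) ∉ T V ⊤ θ := by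
  intro hd
  have ht := Emb.conj_mem hd (mem_top (io vv)⁻¹)
  rw [inv_inv, ← map_inv, ← map_mul, ← map_mul] at ht
  have hoX : Odd (orderOf X) := by rw [order_X]; decide
  have h2 : (vv⁻¹ * gn .d * vv)⁻¹ = vv⁻¹ * gn .d * vv := by
    rw [inv_eq_iff_mul_eq_one]
    calc vv⁻¹ * gn .d * vv * (vv⁻¹ * gn .d * vv) = vv⁻¹ * (gn .d * gn .d) * vv := by group
      _ = 1 := by rw [d_sq]; group
  have hinv : (vv⁻¹ * gn .d * vv) * X * (vv⁻¹ * gn .d * vv)⁻¹ = X⁻¹ := by
    rw [h2, eq_inv_iff_mul_eq_one]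
    exact d_inv
  obtain ⟨u, hu, hux⟩ := Emb.t0 h hθ ht (x := io X) ⟨X, rfl⟩
    (by rw [orderOf_injective io io_inj]; exact hoX) (by rw [← map_mul, ← map_inv, ← map_mul, hinv, map_inv])
  have husq := Emb.sq h hu
  by_cases huN : u ∈ Nn
  · obtain ⟨g, rfl⟩ := huN
    have h3 : g * X = X * g := io_inj (by rw [map_mul, map_mul, hux])
    have h4 : g * g = 1 := io_inj (by rw [map_mul, husq, map_one])
    have h5 : orderOf (⟨g, mem_centralizer_singleton_iff.2 h3⟩ : ↥(centralizer ({X} : Set Spor.He))) ∣ 17 := by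
      have h6 := orderOf_dvd_natCard (⟨g, mem_centralizer_singleton_iff.2 h3⟩ : ↥(centralizer ({X} : Set Spor.He)))
      have h7 : Nat.card ↥(centralizer ({X} : Set Spor.He)) = 17 := Cfsg.Agent.H828.KillHe.cent17
      rwa [h7] at h6
    rw [Subgroup.orderOf_mk] at h5
    have h6 : orderOf g ∣ 2 := orderOf_dvd_of_pow_eq_one (by rw [pow_two, h4])
    have h7 : orderOf g ∣ 1 := by
      have := Nat.dvd_gcd h5 h6
      norm_num at this
      exact Nat.dvd_one.2 (by simpa using this)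
    have h8 : g = 1 := orderOf_eq_one_iff.1 (Nat.dvd_one.1 h7)
    exact hθ.ne_one hu (by rw [h8, map_one])
  · have hl : io ll * rho ∉ Nn := fun h3 => rho_not ((Subgroup.mul_mem_cancel_left Nn ⟨ll, rfl⟩).1 h3)
    obtain ⟨y, hy⟩ := mul_mem_of huN hl
    apply no_14 (y := y)
    have h3 : u X = X := by
      apply io_inj
      rw [← aut_io, hux, mul_inv_cancel_right]
    have h4 : y * X * y⁻¹ = u (ll * rho X * ll⁻¹) := DFunLike.congr_fun hy X
    rw [h4, rho_X, mul_inv_cancel_right, map_pow, h3]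

end dead

/-! ### The row -/

theorem a_c : ∃ g : Spor.He, g * gn .a * g⁻¹ = c := by
  refine ⟨wd [.d, .c, .d, .c, .b, .f, .d, .c, .g, .d, .f, .e, .d, .c, .b], ?_⟩
  rw [mul_inv_eq_iff_eq_mul, c, ← wd_one, ← wd_append, ← wd_append]
  exact eq_of_chkB (by decide +kernel)

theorem no_inner {G : Type u} [Group G] [Finite G] {V K : Subgroup G} {θ : G →* MulAut Spor.He} (h : Cx V K)
    (hθ : Emb K (⊤ : Subgroup (MulAut Spor.He)) Nn θ) {v : G} (hv : v ∈ V) (hv1 : v ≠ 1) : v ∉ K := by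
  intro hvK
  have h1 : θ v ∈ Nn := by rw [← hθ.img]; exact ⟨v, hvK, rfl⟩
  obtain ⟨g, hg⟩ := h1
  have hT : io g ∈ T V ⊤ θ := ⟨v, hv, hv1, 1, mem_top _, by rw [hg, one_mul, inv_one, mul_one]⟩
  have hgg : g * g = 1 := io_inj (by rw [map_mul, hg, ← map_mul, h.sq hv, map_one, map_one])
  have hg1 : g ≠ 1 := by
    rintro rfl
    exact hθ.ne_one hT (map_one _)
  rcases KFacts.He.Classes.two_classes_ad hgg hg1 with ⟨q, hq⟩ | ⟨q, hq⟩
  · apply dead_d h hθ
    have h2 := Emb.conj_mem hT (mem_top (io q)⁻¹)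
    rw [inv_inv, ← map_inv, ← map_mul, ← map_mul, ← hq] at h2
    have h3 : q⁻¹ * (q * PresentedGroup.of Gen.d * q⁻¹) * q = gn .d := by
      show q⁻¹ * (q * gn .d * q⁻¹) * q = gn .d
      group
    rwa [h3] at h2
  · apply dead_c h hθ
    obtain ⟨r, hr⟩ := a_c
    have h2 := Emb.conj_mem hT (mem_top (io (r * q⁻¹)))
    rw [← map_inv, ← map_mul, ← map_mul, ← hq] at h2
    have h3 : r * q⁻¹ * (q * PresentedGroup.of Gen.a * q⁻¹) * (r * q⁻¹)⁻¹ = c := by
      rw [← hr]
      show r * q⁻¹ * (q * gn .a * q⁻¹) * (r * q⁻¹)⁻¹ = r * gn .a * r⁻¹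
      group
    rwa [h3] at h2

/-- **S3010, the row `He`.** -/
theorem dead : DeadS.{u} (fun K _ => Cfsg.Spor.IsoHe K) := by
  intro G _ _ V K h hK
  obtain ⟨e0⟩ := hK
  let e1 : Spor.He ≃* Nn := MonoidHom.ofInjective io_inj
  have he1 : ∀ g, ((e1 g : Nn) : MulAut Spor.He) = io g := fun g => rfl
  have hex : ∃ θ : G →* MulAut Spor.He, Emb K (⊤ : Subgroup (MulAut Spor.He)) Nn θ := by
    refine exists_emb h (e0.trans e1) le_top ?_ ?_ ?_
    · rintro α - _ ⟨g, rfl⟩
      exact ⟨α g, (aut_io α g).symm⟩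
    · intro σ
      let τ : MulAut Spor.He := (e1.trans σ).trans e1.symm
      refine ⟨τ, mem_top _, fun q => ?_⟩
      obtain ⟨g, rfl⟩ := e1.surjective q
      have h1 : σ (e1 g) = e1 (τ g) := (e1.apply_symm_apply _).symm
      rw [h1, he1, he1, aut_io]
    · intro p _ hp
      apply MulEquiv.ext
      intro g
      apply io_inj
      rw [← aut_io, hp (io g) ⟨g, rfl⟩, mul_inv_cancel_right]
      rfl
  obtain ⟨θ, hθ⟩ := hex
  have h8 := h.card
  have hinj : ∀ v ∈ V, ∀ w ∈ V, v ≠ 1 → w ≠ 1 → v = w := by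
    intro v hv w hw hv1 hw1
    have hnv : θ v ∉ Nn := by
      intro h1
      rw [← hθ.img] at h1
      obtain ⟨l, hl, hlv⟩ := h1
      exact no_inner h hθ hv hv1 (hθ.inj hlv ▸ hl)
    have hnw : θ w ∉ Nn := by
      intro h1
      rw [← hθ.img] at h1
      obtain ⟨l, hl, hlv⟩ := h1
      exact no_inner h hθ hw hw1 (hθ.inj hlv ▸ hl)
    have h1 : θ (v * w) ∈ Nn := by rw [map_mul]; exact mul_mem_of hnv hnw
    rw [← hθ.img] at h1
    obtain ⟨l, hl, hlv⟩ := h1
    have h2 : v * w ∈ K := hθ.inj hlv ▸ hl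
    by_contra hne
    refine no_inner h hθ (V.mul_mem hv hw) ?_ h2
    intro h3
    apply hne
    rw [← h.inv_eq hw]
    exact eq_inv_of_mul_eq_one_left h3
  have h1 : ∃ v ∈ V, v ≠ 1 := by
    by_contra hcon
    push Not at hcon
    exact h.V_ne_bot ((Subgroup.eq_bot_iff_forall V).2 hcon)
  obtain ⟨v, hv, hv1⟩ := h1
  have h2 : (V : Set G) ⊆ {1, v} := by
    intro w hw
    by_cases hw1 : w = 1
    · exact Or.inl hw1
    · exact Or.inr (hinj w hw v hv hw1 hv1)
  have h3 := Set.ncard_le_ncard h2 (Set.toFinite _)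
  have h4 : ({1, v} : Set G).ncard ≤ 2 := Set.ncard_insert_le _ _ |>.trans (by rw [Set.ncard_singleton])
  have h5 : Nat.card V = (V : Set G).ncard := rfl
  omega

end Cfsg.Agent.H823.SK.He
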