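import Cfsg.Agent.H282.SK.Tools

/-!
# S3010 (Sidki pairs): embedding a minimal counterexample in a permutation group (helper823)

* `Emb V K A N θ` : `θ : G →* P` injective with image in `A`, `θ(K) = N`;
* `exists_emb` : existence, if all automorphisms of `N` are induced by elements of `A` and `C_A(N) = 1`;
* `T V A θ` : the `A`-conjugates of the `θ w`, `w ∈ V#`;
* `Emb.t0`, `Emb.t2`.
-/

set_option autoImplicit false

universe u v

open Subgroup Cfsg Cfsg.Agent.H282.SK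

namespace Cfsg.Agent.H823.SK

variable {G : Type u} [Group G] [Finite G] {V K : Subgroup G} {P : Type v} [Group P] {A N : Subgroup P}

/-- The embedding. -/
structure Emb (K : Subgroup G) (A N : Subgroup P) (θ : G →* P) : Prop where
  inj : Function.Injective θ
  rng : ∀ g, θ g ∈ A
  img : K.map θ = N
  nrm : ∀ a ∈ A, ∀ n ∈ N, a * n * a⁻¹ ∈ N

/-- the `A`-conjugates of the images of the elements of `V#`. -/
def T (V : Subgroup G) (A : Subgroup P) (θ : G →* P) : Set P :=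
  {u | ∃ w ∈ V, w ≠ 1 ∧ ∃ c ∈ A, u = c * θ w * c⁻¹}

theorem exists_emb (h : Cx V K) (e : K ≃* N) (hNA : N ≤ A) (hnrm : ∀ a ∈ A, ∀ n ∈ N, a * n * a⁻¹ ∈ N)
    (haut : ∀ σ : N ≃* N, ∃ p ∈ A, ∀ q : N, ((σ q : N) : P) = p * q * p⁻¹)
    (hcen : ∀ p ∈ A, (∀ q ∈ N, p * q = q * p) → p = 1) : ∃ θ : G →* P, Emb K A N θ := by
  have := h.norm
  let σ : G → (N ≃* N) := fun g => e.symm.trans ((MulAut.conjNormal g : MulAut K).trans e)
  have hσ : ∀ (g : G) (k : K), σ g (e k) = e (MulAut.conjNormal g k) := by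
    intro g k
    show e (MulAut.conjNormal g (e.symm (e k))) = _
    rw [e.symm_apply_apply]
  choose p hpA hp using fun g => haut (σ g)
  have huniq : ∀ a ∈ A, ∀ b ∈ A, (∀ q : N, a * (q : P) * a⁻¹ = b * q * b⁻¹) → a = b := by
    intro a ha b hb hab
    have h1 : b⁻¹ * a = 1 := by
      refine hcen _ (A.mul_mem (A.inv_mem hb) ha) fun q hq => ?_
      have h2 := hab ⟨q, hq⟩
      have h2' : a * q * a⁻¹ = b * q * b⁻¹ := h2
      calc b⁻¹ * a * q = b⁻¹ * (a * q * a⁻¹) * a := by group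
        _ = b⁻¹ * (b * q * b⁻¹) * a := by rw [h2']
        _ = q * (b⁻¹ * a) := by group
    have : a = b * (b⁻¹ * a) := by group
    rw [this, h1, mul_one]
  have hmul : ∀ a b : G, p (a * b) = p a * p b := by
    intro a b
    refine huniq _ (hpA _) _ (A.mul_mem (hpA a) (hpA b)) fun q => ?_
    obtain ⟨k, rfl⟩ := e.surjective q
    rw [← hp (a * b), hσ]
    have h1 := hp b (e k)
    rw [hσ] at h1
    have h2 := hp a (e (MulAut.conjNormal b k))
    rw [hσ] at h2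
    calc ((e (MulAut.conjNormal (a * b) k) : N) : P) = ((e (MulAut.conjNormal a (MulAut.conjNormal b k)) : N) : P) := by
          rw [map_mul, MulAut.mul_apply]
      _ = p a * (p b * (e k : P) * (p b)⁻¹) * (p a)⁻¹ := by rw [h2, h1]
      _ = _ := by group
  let θ : G →* P := MonoidHom.mk' p hmul
  have hk : ∀ k : K, θ k = e k := by
    intro k
    refine huniq _ (hpA _) _ (hNA (e k).2) fun q => ?_
    obtain ⟨l, rfl⟩ := e.surjective q
    rw [← hp (k : G), hσ]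
    have h1 : MulAut.conjNormal (k : G) l = k * l * k⁻¹ := by
      apply Subtype.ext
      rw [MulAut.conjNormal_apply]
      rfl
    rw [h1, map_mul, map_mul, map_inv]
    rfl
  refine ⟨θ, ?_, hpA, ?_, hnrm⟩
  · rw [injective_iff_map_eq_one]
    intro g hg
    apply h.eq_one_of_comm
    intro k hk'
    have h1 := hp g (e ⟨k, hk'⟩)
    have h2 : p g = 1 := hg
    rw [hσ, h2, one_mul, inv_one, mul_one] at h1
    have h3 := e.injective (Subtype.ext h1)
    have h4 := congrArg (Subtype.val) h3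
    rw [MulAut.conjNormal_apply] at h4
    exact mul_inv_eq_iff_eq_mul.1 h4
  · ext n
    constructor
    · rintro ⟨k, hk', rfl⟩
      rw [show θ k = θ ((⟨k, hk'⟩ : K) : G) from rfl, hk]
      exact (e _).2
    · intro hn
      refine ⟨e.symm ⟨n, hn⟩, (e.symm _).2, ?_⟩
      rw [hk, e.apply_symm_apply]

namespace Emb

variable {θ : G →* P}

theorem conj_mem {A : Subgroup P} {θ : G →* P} {u c : P} (hu : u ∈ T V A θ) (hc : c ∈ A) : c * u * c⁻¹ ∈ T V A θ := by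
  obtain ⟨w, hw, hw1, d, hd, rfl⟩ := hu
  exact ⟨w, hw, hw1, c * d, A.mul_mem hc hd, by group⟩

theorem mem_A (hθ : Emb K A N θ) {u : P} (hu : u ∈ T V A θ) : u ∈ A := by
  obtain ⟨w, -, -, d, hd, rfl⟩ := hu
  exact A.mul_mem (A.mul_mem hd (hθ.rng w)) (A.inv_mem hd)

theorem ne_one (hθ : Emb K A N θ) {u : P} (hu : u ∈ T V A θ) : u ≠ 1 := by
  obtain ⟨w, -, hw1, d, -, rfl⟩ := hu
  intro h1
  apply hw1
  apply hθ.inj
  rw [map_one]
  have : θ w = d⁻¹ * (d * θ w * d⁻¹) * d := by group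
  rw [this, h1]
  group

theorem sq (h : Cx V K) {u : P} (hu : u ∈ T V A θ) : u * u = 1 := by
  obtain ⟨w, hw, -, d, -, rfl⟩ := hu
  have h1 : θ w * θ w = 1 := by rw [← map_mul, h.sq hw, map_one]
  calc d * θ w * d⁻¹ * (d * θ w * d⁻¹) = d * (θ w * θ w) * d⁻¹ := by group
    _ = 1 := by rw [h1]; group

/-- **(T2)** in `A`. -/
theorem t2 (h : Cx V K) (hθ : Emb K A N θ) {t x : P} (ht : t ∈ T V A θ) (hxN : x ∈ N) (hx : Odd (orderOf x))
    (hi : t * x * t⁻¹ = x⁻¹) : ∃ u ∈ T V A θ, u * x = x * u ∧ u * t = t * u ∧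
      ∀ y ∈ N, Odd (orderOf y) → y * t = t * y → y * x = x * y → u * y * u⁻¹ = y⁻¹ → y = 1 := by
  obtain ⟨v, hv, hv1, c, hc, rfl⟩ := ht
  have hpre : ∀ n ∈ N, ∃ k : G, k ∈ K ∧ θ k = c⁻¹ * n * c := by
    intro n hn
    have h1 : c⁻¹ * n * c ∈ N := by
      have := hθ.nrm c⁻¹ (A.inv_mem hc) n hn
      rwa [inv_inv] at this
    rw [← hθ.img] at h1
    obtain ⟨k, hk, e⟩ := h1
    exact ⟨k, hk, e⟩
  obtain ⟨k, -, hk⟩ := hpre x hxN
  have hko : ∀ (n : P) (k : G), θ k = c⁻¹ * n * c → orderOf k = orderOf n := by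
    intro n k hk
    rw [← orderOf_injective θ hθ.inj, hk]
    have := (MulAut.conj c⁻¹).orderOf_eq n
    simpa using this
  have hkx : Odd (orderOf k) := by rwa [hko x k hk]
  have hki : v * k * v⁻¹ = k⁻¹ := by
    apply hθ.inj
    rw [map_mul, map_mul, map_inv, map_inv, hk]
    calc θ v * (c⁻¹ * x * c) * (θ v)⁻¹ = c⁻¹ * ((c * θ v * c⁻¹) * x * (c * θ v * c⁻¹)⁻¹) * c := by group
      _ = c⁻¹ * x⁻¹ * c := by rw [hi]
      _ = (c⁻¹ * x * c)⁻¹ := by group
  obtain ⟨w, hw, hw1, hwk, hwO⟩ := h.t1 hv hv1 hkx hki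
  refine ⟨c * θ w * c⁻¹, ⟨w, hw, hw1, c, hc, rfl⟩, ?_, ?_, ?_⟩
  · have h1 : θ w * (c⁻¹ * x * c) = (c⁻¹ * x * c) * θ w := by rw [← hk, ← map_mul, ← map_mul, hwk.eq]
    calc c * θ w * c⁻¹ * x = c * (θ w * (c⁻¹ * x * c)) * c⁻¹ := by group
      _ = c * ((c⁻¹ * x * c) * θ w) * c⁻¹ := by rw [h1]
      _ = _ := by group
  · have h1 : θ w * θ v = θ v * θ w := by rw [← map_mul, ← map_mul, (h.comm hw hv).eq]
    calc c * θ w * c⁻¹ * (c * θ v * c⁻¹) = c * (θ w * θ v) * c⁻¹ := by group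
      _ = c * (θ v * θ w) * c⁻¹ := by rw [h1]
      _ = _ := by group
  · intro y hyN hyo hyt hyx hyi
    obtain ⟨l, -, hl⟩ := hpre y hyN
    have hlo : Odd (orderOf l) := by rwa [hko y l hl]
    have h1 : l = 1 := by
      refine eq_one_of_inv hwO (mem_inf.2 ⟨mem_centralizer_singleton_iff.2 (hθ.inj ?_),
        mem_centralizer_singleton_iff.2 (hθ.inj ?_)⟩) hlo (hθ.inj ?_)
      · rw [map_mul, map_mul, hl]
        calc c⁻¹ * y * c * θ v = c⁻¹ * (y * (c * θ v * c⁻¹)) * c := by group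
          _ = c⁻¹ * ((c * θ v * c⁻¹) * y) * c := by rw [hyt]
          _ = _ := by group
      · rw [map_mul, map_mul, hl, hk]
        calc c⁻¹ * y * c * (c⁻¹ * x * c) = c⁻¹ * (y * x) * c := by group
          _ = c⁻¹ * (x * y) * c := by rw [hyx]
          _ = _ := by group
      · rw [map_mul, map_mul, map_inv, map_inv, hl]
        calc θ w * (c⁻¹ * y * c) * (θ w)⁻¹ = c⁻¹ * ((c * θ w * c⁻¹) * y * (c * θ w * c⁻¹)⁻¹) * c := by group
          _ = c⁻¹ * y⁻¹ * c := by rw [hyi]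
          _ = _ := by group
    rw [h1, map_one] at hl
    have : y = c * (c⁻¹ * y * c) * c⁻¹ := by group
    rw [this, ← hl]
    group

/-- **(T0)** in `A`. -/
theorem t0 (h : Cx V K) (hθ : Emb K A N θ) {t x : P} (ht : t ∈ T V A θ) (hxN : x ∈ N) (hx : Odd (orderOf x))
    (hi : t * x * t⁻¹ = x⁻¹) : ∃ u ∈ T V A θ, u * x = x * u := by
  obtain ⟨u, hu, h1, -⟩ := t2 h hθ ht hxN hx hi
  exact ⟨u, hu, h1⟩

end Emb

end Cfsg.Agent.H823.SK
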